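import Mathlib
import Cfsg.Agent.Lib.ClassSize.Counting
import Cfsg.Agent.Lib.ClassSize.Cover

/-!
# Class sizes of `p`-singular elements when `p` does not divide the order of the centre

For elements `u`, `z` of order `p` with coprime class sizes, `z` central in a Sylow subgroup, some
`p`-singular element has class size meeting both class sizes.
-/

set_option autoImplicit false

namespace Cfsg.Agent.Lib.SingularGraph

open Cfsg.Agent.Lib.ClassSize (exists_mem_mul_of_index_coprime exists_sylow_le_centralizer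
  not_dvd_index_iff eq_top_of_forall_exists_conj_mem exists_pParts)

variable {G : Type*} [Group G]

/-- The class of `x`. -/
def cls (x : G) : Set G := Set.range fun g : G => g * x * g⁻¹

/-- Class size. -/
noncomputable abbrev csz (x : G) : ℕ := (Subgroup.centralizer ({x} : Set G)).index

lemma card_cls (x : G) : Nat.card (cls x) = csz x := by
  have hfib : ∀ a b : G, a * x * a⁻¹ = b * x * b⁻¹ ↔
      a⁻¹ * b ∈ Subgroup.centralizer ({x} : Set G) := by
    intro a b
    rw [Subgroup.mem_centralizer_singleton_iff]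
    constructor
    · intro h
      calc a⁻¹ * b * x = a⁻¹ * (b * x * b⁻¹) * b := by group
        _ = a⁻¹ * (a * x * a⁻¹) * b := by rw [h]
        _ = _ := by group
    · intro h
      calc a * x * a⁻¹ = a * (x * (a⁻¹ * b)) * b⁻¹ := by group
        _ = a * (a⁻¹ * b * x) * b⁻¹ := by rw [h]
        _ = _ := by group
  rw [csz, Subgroup.index]
  refine (Nat.card_eq_of_bijective (fun q : G ⧸ Subgroup.centralizer ({x} : Set G) =>
    Quotient.liftOn' q (fun g => (⟨g * x * g⁻¹, g, rfl⟩ : cls x)) fun a b hab => ?_) ?_).symm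
  · rw [QuotientGroup.leftRel_apply] at hab
    exact Subtype.ext ((hfib a b).2 hab)
  · constructor
    · rintro ⟨a⟩ ⟨b⟩ h
      exact QuotientGroup.eq.2 ((hfib a b).1 (congrArg Subtype.val h))
    · rintro ⟨_, g, rfl⟩
      exact ⟨(g : G ⧸ _), rfl⟩

lemma csz_conj (x g : G) : csz (g * x * g⁻¹) = csz x := by
  have e : cls (g * x * g⁻¹) = cls x := by
    ext y
    constructor
    · rintro ⟨h, rfl⟩
      exact ⟨h * g, by simp [mul_assoc]⟩
    · rintro ⟨h, rfl⟩
      exact ⟨h * g⁻¹, by simp [mul_assoc]⟩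
  rw [← card_cls, ← card_cls, e]

lemma mem_cls_self (x : G) : x ∈ cls x := ⟨1, by group⟩

lemma centralizer_pow_le (x : G) (n : ℕ) :
    Subgroup.centralizer ({x} : Set G) ≤ Subgroup.centralizer ({x ^ n} : Set G) := by
  intro c hc
  rw [Subgroup.mem_centralizer_singleton_iff] at hc ⊢
  exact (Commute.pow_right (show Commute c x from hc) n).eq

lemma csz_pow_dvd (x : G) (n : ℕ) : csz (x ^ n) ∣ csz x :=
  Subgroup.index_dvd_of_le (centralizer_pow_le x n)

lemma orderOf_conj' (x g : G) : orderOf (g * x * g⁻¹) = orderOf x := by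
  rw [← MulAut.conj_apply, MulEquiv.orderOf_eq]

variable {p : ℕ} [Fact p.Prime]

/-- A set invariant under translation by an element of order `p` has cardinality divisible
by `p`. -/
lemma dvd_card_of_translate [Finite G] (S : Set G) {w : G} (hw : w ≠ 1) (hwp : w ^ p = 1)
    (hS : ∀ s ∈ S, w * s ∈ S) : p ∣ Nat.card S := by
  have hord : orderOf w = p := orderOf_eq_prime hwp hw
  have hH : IsPGroup p (Subgroup.zpowers w) :=
    IsPGroup.of_card (n := 1) (by rw [Nat.card_zpowers, hord, pow_one])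
  have hinv : ∀ h ∈ Subgroup.zpowers w, ∀ s ∈ S, h * s ∈ S := by
    intro h hh
    obtain ⟨n, rfl⟩ := (IsOfFinOrder.mem_powers_iff_mem_zpowers (isOfFinOrder_of_finite w)).2 hh
    intro s hs
    show w ^ n * s ∈ S
    induction n with
    | zero => simpa using hs
    | succ n ih => rw [pow_succ', mul_assoc]; exact hS _ (ih (Subgroup.pow_mem _ (Subgroup.mem_zpowers w) n))
  let _ : MulAction (Subgroup.zpowers w) S :=
    { smul := fun h s => ⟨(h : G) * s, hinv h h.2 s s.2⟩
      one_smul := fun s => Subtype.ext (one_mul _)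
      mul_smul := fun a b s => Subtype.ext (mul_assoc _ _ _) }
  have hmod := hH.card_modEq_card_fixedPoints S
  have : IsEmpty (MulAction.fixedPoints (Subgroup.zpowers w) S) := by
    refine ⟨fun s => hw ?_⟩
    have h := congrArg Subtype.val (s.2 ⟨w, Subgroup.mem_zpowers w⟩)
    exact mul_eq_right.1 h
  rw [Nat.card_of_isEmpty (α := MulAction.fixedPoints (Subgroup.zpowers w) S)] at hmod
  exact (Nat.modEq_zero_iff_dvd).1 hmod

variable [Finite G]

/-- If `u` commutes with the class of `z` and `uz` has class size dividing that of `z`, then a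
non-central `u` forces `p` to divide the class size of `z`. -/
lemma dvd_of_product_class {u z : G} (hu : u ^ p = 1)
    (hnc : csz u ≠ 1) (hcop : (csz u).Coprime (csz z))
    (hcomm : ∀ g h : G, Commute (g * u * g⁻¹) (h * z * h⁻¹))
    (hdvd : csz (u * z) ∣ csz z) :
    p ∣ csz z ∧ cls (u * z) = (fun y => u * y) '' cls z := by
  -- every pair of conjugates is conjugate to `(u, z)`
  have htrans : ∀ g h : G, g * u * g⁻¹ * (h * z * h⁻¹) ∈ cls (u * z) := by
    intro g h
    obtain ⟨b, hb, hab⟩ := exists_mem_mul_of_index_coprime (Subgroup.centralizer ({u} : Set G))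
      (Subgroup.centralizer ({z} : Set G)) hcop (h⁻¹ * g)
    rw [Subgroup.mem_centralizer_singleton_iff] at hb hab
    refine ⟨h * b, ?_⟩
    show h * b * (u * z) * (h * b)⁻¹ = _
    have e1 : g * u * g⁻¹ = h * b * u * (h * b)⁻¹ := by
      calc g * u * g⁻¹ = h * b * (b⁻¹ * (h⁻¹ * g) * u) * g⁻¹ := by group
        _ = h * b * (u * (b⁻¹ * (h⁻¹ * g))) * g⁻¹ := by rw [hab]
        _ = _ := by group
    have e2 : h * z * h⁻¹ = h * b * z * (h * b)⁻¹ := by
      calc h * z * h⁻¹ = h * (z * b) * b⁻¹ * h⁻¹ := by group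
        _ = h * (b * z) * b⁻¹ * h⁻¹ := by rw [hb]
        _ = _ := by group
    rw [e1, e2]
    group
  have heq : ∀ g : G, (fun y => g * u * g⁻¹ * y) '' cls z = cls (u * z) := by
    intro g
    refine Set.eq_of_subset_of_ncard_le ?_ ?_
    · rintro _ ⟨_, ⟨h, rfl⟩, rfl⟩
      exact htrans g h
    · rw [Set.ncard_image_of_injective _ (mul_right_injective _), ← Nat.card_coe_set_eq,
        ← Nat.card_coe_set_eq, card_cls, card_cls]
      exact Nat.le_of_dvd (Nat.pos_of_ne_zero Subgroup.index_ne_zero_of_finite) hdvd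
  have heq1 : (fun y => u * y) '' cls z = cls (u * z) := by simpa using heq 1
  refine ⟨?_, heq1.symm⟩
  -- two conjugates of `u`
  obtain ⟨g, hg⟩ : ∃ g : G, g * u * g⁻¹ ≠ u := by
    by_contra hh
    push Not at hh
    apply hnc
    rw [csz, Subgroup.index_eq_one, eq_top_iff]
    intro g _
    rw [Subgroup.mem_centralizer_singleton_iff]
    exact mul_inv_eq_iff_eq_mul.1 (hh g)
  set u' := g * u * g⁻¹ with hu'
  set w := u⁻¹ * u' with hw
  obtain ⟨y, ⟨k, hk⟩, hyz⟩ : u' * z ∈ (fun y => u * y) '' cls z := by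
    rw [heq1, ← heq g]
    exact ⟨z, mem_cls_self z, rfl⟩
  simp only at hk hyz
  have hwy : w * z = y := by rw [hw, mul_assoc, ← hyz, inv_mul_cancel_left]
  have huw : Commute u w := by
    have h1 : Commute u z := by simpa using hcomm 1 1
    have h2 : Commute u y := by
      have := hcomm 1 k
      rw [one_mul, inv_one, mul_one, hk] at this
      exact this
    rw [show w = y * z⁻¹ by rw [← hwy]; group]
    exact h2.mul_right h1.inv_right
  have hwp : w ^ p = 1 := by
    have h0 : u' ^ p = 1 := by rw [hu', conj_pow, hu, mul_one, mul_inv_cancel]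
    rw [show u' = u * w by rw [hw]; group, huw.mul_pow, hu, one_mul] at h0
    exact h0
  rw [← card_cls]
  refine dvd_card_of_translate _ (fun h => hg ?_) hwp fun s hs => ?_
  · exact (inv_mul_eq_one.1 h).symm
  · obtain ⟨s', hs', hss⟩ : u' * s ∈ (fun y => u * y) '' cls z := by
      rw [heq1, ← heq g]
      exact ⟨s, hs, rfl⟩
    simp only at hss
    rwa [hw, mul_assoc, ← hss, inv_mul_cancel_left]

/-- A normal `p`-subgroup not contained in a normal subgroup `K` has an element outside `K` that is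
central modulo `K` under a given `p`-group. -/
lemma exists_central_mod (P : Sylow p G) {R K : Subgroup G} [K.Normal] [R.Normal]
    (hRP : R ≤ (P : Subgroup G)) (hlt : ¬ R ≤ K) :
    ∃ v ∈ R, v ∉ K ∧ ∀ a ∈ P, a * v * a⁻¹ * v⁻¹ ∈ K := by
  let π := QuotientGroup.mk' K
  let R' : Subgroup (G ⧸ K) := R.map π
  have hR'n : R'.Normal := Subgroup.Normal.map inferInstance _ (QuotientGroup.mk'_surjective K)
  let P' : Subgroup (G ⧸ K) := (P : Subgroup G).map π
  have hP' : IsPGroup p P' := P.2.map π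
  have hR'P : R' ≤ P' := Subgroup.map_mono hRP
  let _ : MulAction P' R' :=
    { smul := fun a r => ⟨(a : G ⧸ K) * r * (a : G ⧸ K)⁻¹, hR'n.conj_mem r r.2 a⟩
      one_smul := fun r => Subtype.ext (show (1 : G ⧸ K) * r * 1⁻¹ = r by group)
      mul_smul := fun a b r => Subtype.ext (show ((a * b : P') : G ⧸ K) * r * ((a * b : P') : G ⧸ K)⁻¹ =
        (a : G ⧸ K) * ((b : G ⧸ K) * r * (b : G ⧸ K)⁻¹) * (a : G ⧸ K)⁻¹ by
          rw [Subgroup.coe_mul]; group) }
  have hmod := hP'.card_modEq_card_fixedPoints R'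
  have hne : R' ≠ ⊥ := fun h => hlt (by
    rw [Subgroup.map_eq_bot_iff, QuotientGroup.ker_mk'] at h
    exact h)
  have hdvd : p ∣ Nat.card R' := by
    obtain ⟨k, hk⟩ := IsPGroup.iff_card.1 (hP'.to_le hR'P)
    rcases k with _ | k
    · exact absurd (Subgroup.card_eq_one.1 (by simpa using hk)) hne
    · rw [hk]; exact dvd_pow_self p k.succ_ne_zero
  have hone : (1 : R') ∈ MulAction.fixedPoints P' R' :=
    fun a => Subtype.ext (show (a : G ⧸ K) * 1 * (a : G ⧸ K)⁻¹ = 1 by group)
  obtain ⟨r, hr, hr1⟩ := hP'.exists_fixed_point_of_prime_dvd_card_of_fixed_point R' hdvd hone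
  obtain ⟨v, hv, hvr⟩ := r.2
  refine ⟨v, hv, fun hk => hr1 (Subtype.ext ?_), fun a ha => ?_⟩
  · show (1 : G ⧸ K) = (r : G ⧸ K)
    rw [← hvr]
    exact ((QuotientGroup.eq_one_iff v).2 hk).symm
  · have h : π a * (r : G ⧸ K) * (π a)⁻¹ = r :=
      congrArg Subtype.val (hr ⟨π a, Subgroup.mem_map_of_mem π ha⟩)
    rw [← hvr, ← map_inv, ← map_mul, ← map_mul] at h
    rw [← QuotientGroup.eq_one_iff]
    show π (a * v * a⁻¹ * v⁻¹) = 1
    rw [map_mul, h, ← map_mul, mul_inv_cancel, map_one]

/-- A `q`-element normalising the coset `v K` of a `p`-group `K` fixes a point of it. -/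
lemma exists_fixed_in_coset {P : Sylow p G} {q : ℕ} [Fact q.Prime] (hqp : q ≠ p) (T : Sylow q G)
    {y : G} (hy : y ∈ T) {K : Subgroup G} [hKn : K.Normal] (hK : K ≤ (P : Subgroup G)) {v : G}
    (hv : ∀ g : G, g * v * g⁻¹ * v⁻¹ ∈ K) : ∃ k ∈ K, Commute y (v * k) := by
  have hH : IsPGroup q (Subgroup.zpowers y) := T.2.to_le (Subgroup.zpowers_le.2 hy)
  let S : Set G := (fun k => v * k) '' (K : Set G)
  have hinv : ∀ g : G, ∀ x ∈ S, g * x * g⁻¹ ∈ S := by
    rintro g _ ⟨k, hk, rfl⟩
    refine ⟨v⁻¹ * (g * v * g⁻¹) * (g * k * g⁻¹), ?_, by group⟩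
    refine K.mul_mem ?_ (hKn.conj_mem k hk g)
    have := hKn.conj_mem _ (hv g) v⁻¹
    simpa [mul_assoc] using this
  let _ : MulAction (Subgroup.zpowers y) S :=
    { smul := fun a x => ⟨(a : G) * x * (a : G)⁻¹, hinv _ x x.2⟩
      one_smul := fun x => Subtype.ext (show (1 : G) * x * 1⁻¹ = x by group)
      mul_smul := fun a b x => Subtype.ext (show ((a * b : Subgroup.zpowers y) : G) * x *
          ((a * b : Subgroup.zpowers y) : G)⁻¹ = (a : G) * ((b : G) * x * (b : G)⁻¹) * (a : G)⁻¹ by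
            rw [Subgroup.coe_mul]; group) }
  have hndvd : ¬ q ∣ Nat.card S := by
    rw [Nat.card_image_of_injective (mul_right_injective v)]
    obtain ⟨k, hk⟩ := IsPGroup.iff_card.1 (P.2.to_le hK)
    intro hd
    rw [SetLike.coe_sort_coe, hk] at hd
    exact hqp ((Nat.prime_dvd_prime_iff_eq Fact.out Fact.out).1 ((Fact.out : q.Prime).dvd_of_dvd_pow hd))
  obtain ⟨⟨_, k, hk, rfl⟩, hfix⟩ := hH.nonempty_fixed_point_of_prime_not_dvd_card S hndvd
  refine ⟨k, hk, ?_⟩
  have h : y * (v * k) * y⁻¹ = v * k :=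
    congrArg Subtype.val (hfix ⟨y, Subgroup.mem_zpowers y⟩)
  exact mul_inv_eq_iff_eq_mul.1 h

/-- The key fact. -/
theorem exists_singular_meeting {u z : G} (hu : orderOf u = p) (hz : orderOf z = p)
    (hnu : csz u ≠ 1) (hnz : csz z ≠ 1) (hcop : (csz u).Coprime (csz z)) (hpz : ¬ p ∣ csz z) :
    ∃ x : G, p ∣ orderOf x ∧ ¬ (csz x).Coprime (csz u) ∧ ¬ (csz x).Coprime (csz z) := by
  classical
  have hp : p.Prime := Fact.out
  have hpg : ∀ {x : G}, orderOf x = p → IsPGroup p (Subgroup.zpowers x) := fun {x} hx =>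
    IsPGroup.of_card (n := 1) (by rw [Nat.card_zpowers, hx, pow_one])
  obtain ⟨P, hPz⟩ := exists_sylow_le_centralizer hpz
  have hzP : z ∈ P := by
    have hn : Subgroup.zpowers z ≤ Subgroup.normalizer ((P : Subgroup G) : Set G) :=
      Subgroup.zpowers_le.2 (Subgroup.centralizer_le_normalizer _ (by
        rw [Subgroup.mem_centralizer_iff]
        intro a ha
        exact Subgroup.mem_centralizer_singleton_iff.1 (hPz ha)))
    have hsup := (hpg hz).to_sup_of_normal_right' P.2 hn
    rw [← SetLike.mem_coe, ← Sylow.coe_coe, SetLike.mem_coe, ← P.3 hsup le_sup_right]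
    exact Subgroup.mem_sup_left (Subgroup.mem_zpowers z)
  -- move `u` into `P`
  obtain ⟨S, hS⟩ := (hpg hu).exists_le_sylow
  obtain ⟨c, hc⟩ := MulAction.exists_smul_eq G S P
  have huP : c * u * c⁻¹ ∈ P := by
    rw [← hc]
    exact Subgroup.smul_mem_pointwise_smul u (MulAut.conj c) _ (hS (Subgroup.mem_zpowers u))
  rw [← csz_conj u c] at hnu hcop ⊢
  rw [← orderOf_conj' u c] at hu
  clear hS hc
  revert huP hnu hcop hu
  generalize c * u * c⁻¹ = u
  intro hu hcop hnu huP
  by_contra hcon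
  push Not at hcon
  have hfail : ∀ x : G, p ∣ orderOf x → ¬ (csz x).Coprime (csz u) → (csz x).Coprime (csz z) :=
    hcon
  have hup : u ^ p = 1 := by rw [← hu]; exact pow_orderOf_eq_one u
  have hzp : z ^ p = 1 := by rw [← hz]; exact pow_orderOf_eq_one z
  have huz : Commute u z := Subgroup.mem_centralizer_singleton_iff.1 (hPz huP)
  -- conjugates of `u` commute with conjugates of `z`
  have hcomm : ∀ g h : G, Commute (g * u * g⁻¹) (h * z * h⁻¹) := by
    intro g h
    obtain ⟨b, hb, hab⟩ := exists_mem_mul_of_index_coprime (Subgroup.centralizer ({u} : Set G))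
      (Subgroup.centralizer ({z} : Set G)) hcop (h⁻¹ * g)
    rw [Subgroup.mem_centralizer_singleton_iff] at hb hab
    have e1 : g * u * g⁻¹ = MulAut.conj (h * b) u := by
      rw [MulAut.conj_apply]
      calc g * u * g⁻¹ = h * b * (b⁻¹ * (h⁻¹ * g) * u) * g⁻¹ := by group
        _ = h * b * (u * (b⁻¹ * (h⁻¹ * g))) * g⁻¹ := by rw [hab]
        _ = _ := by group
    have e2 : h * z * h⁻¹ = MulAut.conj (h * b) z := by
      rw [MulAut.conj_apply]
      calc h * z * h⁻¹ = h * (z * b) * b⁻¹ * h⁻¹ := by group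
        _ = h * (b * z) * b⁻¹ * h⁻¹ := by rw [hb]
        _ = _ := by group
    rw [e1, e2]
    exact huz.map _
  have hdvd : csz (u * z) ∣ csz u * csz z := by
    refine (Subgroup.index_dvd_of_le ?_).trans (dvd_of_eq ?_) (b := (Subgroup.centralizer ({u} : Set G) ⊓
      Subgroup.centralizer ({z} : Set G)).index)
    · intro a ha
      obtain ⟨h1, h2⟩ := Subgroup.mem_inf.1 ha
      rw [Subgroup.mem_centralizer_singleton_iff] at h1 h2 ⊢
      exact (Commute.mul_right (show Commute a u from h1) h2).eq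
    · exact le_antisymm Subgroup.index_inf_le (Nat.le_of_dvd
        (Nat.pos_of_ne_zero Subgroup.index_ne_zero_of_finite)
        (hcop.mul_dvd_of_dvd_of_dvd (Subgroup.index_dvd_of_le inf_le_left)
          (Subgroup.index_dvd_of_le inf_le_right)))
  -- `uz` is a conjugate of `u`
  have huz1 : p ∣ orderOf (u * z) := by
    have h1 : u * z ≠ 1 := by
      intro h
      have hzu : z = u⁻¹ := (inv_eq_of_mul_eq_one_right h).symm
      have : csz z = csz u := by
        rw [hzu, csz, csz]
        congr 1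
        ext a
        simp only [Subgroup.mem_centralizer_singleton_iff]
        exact ⟨fun h => by simpa using (Commute.inv_right (show Commute a u⁻¹ from h)).eq,
          fun h => (Commute.inv_right (show Commute a u from h)).eq⟩
      rw [this, Nat.coprime_self] at hcop
      exact hnu hcop
    have h2 : (u * z) ^ p = 1 := by rw [huz.mul_pow, hup, hzp, one_mul]
    rw [orderOf_eq_prime h2 h1]
  have hclass : cls (u * z) = (fun y => z * y) '' cls u ∧ p ∣ csz u := by
    by_cases h : (csz (u * z)).Coprime (csz u)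
    · exact absurd (dvd_of_product_class hup hnu hcop hcomm (h.dvd_of_dvd_mul_left hdvd)).1 hpz
    · have h2 := hfail _ huz1 h
      have h3 : csz (z * u) ∣ csz u := by
        rw [← huz.eq]
        exact h2.dvd_of_dvd_mul_right hdvd
      have := dvd_of_product_class hzp hnz hcop.symm (fun g h => (hcomm h g).symm) h3
      rw [← huz.eq] at this
      exact ⟨this.2, this.1⟩
  obtain ⟨hclass, hpu⟩ := hclass
  -- the centraliser of `z` is `P C(P)`
  set Cz := Subgroup.centralizer ({z} : Set G) with hCz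
  set J := (P : Subgroup G) ⊔ Subgroup.centralizer ((P : Subgroup G) : Set G) with hJ
  have hcov : Cz ≤ J := by
    have hcentz : Subgroup.centralizer ((P : Subgroup G) : Set G) ≤ Cz := fun a ha =>
      Subgroup.mem_centralizer_singleton_iff.2 (Subgroup.mem_centralizer_iff.1 ha z hzP).symm
    have : J.subgroupOf Cz = ⊤ := by
      refine eq_top_of_forall_exists_conj_mem _ fun g => ?_
      -- decompose `g` into its `p`-part and `p'`-part
      obtain ⟨f, y, hfy, hfy', hf, hycop, hfg, hyg⟩ := exists_pParts (p := p) (g : G)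
      have hy : ¬ p ∣ orderOf y := fun h => hp.not_dvd_one (hycop.gcd_eq_one ▸ Nat.dvd_gcd h dvd_rfl)
      have hpow : ∀ {a : G}, a ∈ Subgroup.zpowers (g : G) → ∀ c : G, Commute (g : G) c → Commute a c := by
        rintro a ⟨i, rfl⟩ c hc
        exact hc.zpow_left i
      have hgf := hpow hfg
      have hgy := hpow hyg
      have hgz : Commute (g : G) z := Subgroup.mem_centralizer_singleton_iff.1 g.2
      have hfz : Commute f z := hgf z hgz
      have hyz : Commute y z := hgy z hgz
      have hord : orderOf (y * z) = orderOf y * p := by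
        rw [hyz.orderOf_mul_eq_mul_orderOf_of_coprime (by
          rw [hz]; exact (hp.coprime_iff_not_dvd.2 hy).symm), hz]
      have hle : Subgroup.centralizer ({y * z} : Set G) ≤
          Subgroup.centralizer ({y} : Set G) ⊓ Cz := by
        intro a ha
        rw [Subgroup.mem_centralizer_singleton_iff] at ha
        have hz' : Commute a z := by
          obtain ⟨n, hn⟩ : ∃ n : ℕ, (y * z) ^ n = z := by
            -- `orderOf y` is prime to `p`
            obtain ⟨c, -, hc⟩ := Nat.exists_mul_mod_eq_one_of_coprime hycop hp.one_lt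
            refine ⟨orderOf y * c, ?_⟩
            rw [hyz.mul_pow, pow_mul, pow_orderOf_eq_one, one_pow, one_mul, ← pow_mod_orderOf, hz, hc,
              pow_one]
          rw [← hn]
          exact Commute.pow_right (show Commute a (y * z) from ha) n
        refine ⟨Subgroup.mem_centralizer_singleton_iff.2 ?_,
          Subgroup.mem_centralizer_singleton_iff.2 hz'⟩
        have : Commute a (y * z * z⁻¹) :=
          Commute.mul_right (show Commute a (y * z) from ha) hz'.inv_right
        simpa using this.eq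
      have hzdvd : csz z ∣ csz (y * z) := Subgroup.index_dvd_of_le (hle.trans inf_le_right)
      have hnot : ¬ p ∣ csz (y * z) := by
        intro hd
        have h1 : ¬ (csz (y * z)).Coprime (csz u) :=
          Nat.not_coprime_of_dvd_of_dvd hp.one_lt hd hpu
        have h2 := hfail (y * z) (hord ▸ dvd_mul_left p _) h1
        exact hnz (Nat.Coprime.eq_one_of_dvd (Nat.Coprime.symm h2) hzdvd)
      -- a Sylow subgroup of `G` inside `C(yz)` containing `f`
      set H := Subgroup.centralizer ({y * z} : Set G) with hH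
      have hfH : f ∈ H :=
        Subgroup.mem_centralizer_singleton_iff.2 (hfy'.mul_right hfz).eq
      obtain ⟨Q, hQ⟩ : ∃ Q : Sylow p H, (⟨f, hfH⟩ : H) ∈ Q := by
        obtain ⟨k, hk⟩ := hf
        obtain ⟨Q, hQ⟩ := (IsPGroup.of_card (n := k) (by
          rw [Nat.card_zpowers, Subgroup.orderOf_mk, hk]) :
            IsPGroup p (Subgroup.zpowers (⟨f, hfH⟩ : H))).exists_le_sylow
        exact ⟨Q, hQ (Subgroup.mem_zpowers _)⟩
      have hQG : ¬ p ∣ ((Q : Subgroup H).map H.subtype).index := by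
        rw [Subgroup.index_map_subtype]
        exact hp.not_dvd_mul Q.not_dvd_index hnot
      set Q' : Sylow p G := (Q.2.map H.subtype).toSylow hQG
      have hQ'le : (Q' : Subgroup G) ≤ Cz :=
        (Subgroup.map_subtype_le _).trans (hle.trans inf_le_right)
      obtain ⟨k, hk⟩ := MulAction.exists_smul_eq Cz (Q'.subtype hQ'le) (P.subtype hPz)
      refine ⟨k, ?_⟩
      rw [Subgroup.mem_subgroupOf, Subgroup.coe_mul, Subgroup.coe_mul, Subgroup.coe_inv]
      have hmapQ : ∀ a ∈ Q', (k : G) * a * (k : G)⁻¹ ∈ P := by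
        intro a ha
        have hak : MulAut.conj k (⟨a, hQ'le ha⟩ : Cz) ∈
            ((k • Q'.subtype hQ'le : Sylow p Cz) : Subgroup Cz) :=
          Subgroup.smul_mem_pointwise_smul _ (MulAut.conj k) _
            (by rw [Sylow.coe_subtype, Subgroup.mem_subgroupOf]; exact ha)
        rw [hk, Sylow.coe_subtype, Subgroup.mem_subgroupOf] at hak
        simp at hak
        exact hak
      have hsurj : ∀ a ∈ P, ∃ b ∈ Q', (k : G) * b * (k : G)⁻¹ = a := by
        intro a ha
        have hak : (⟨a, hPz ha⟩ : Cz) ∈ ((P.subtype hPz : Sylow p Cz) : Subgroup Cz) := by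
          rw [Sylow.coe_subtype, Subgroup.mem_subgroupOf]; exact ha
        rw [← hk, Sylow.coe_subgroup_smul, Subgroup.mem_pointwise_smul_iff_inv_smul_mem,
          Sylow.coe_subtype, Subgroup.mem_subgroupOf] at hak
        refine ⟨(k : G)⁻¹ * a * k, ?_, by group⟩
        simp at hak
        exact hak
      have h1 : (k : G) * f * (k : G)⁻¹ ∈ P :=
        hmapQ f ⟨⟨f, hfH⟩, hQ, rfl⟩
      have h2 : (k : G) * y * (k : G)⁻¹ ∈
          Subgroup.centralizer ((P : Subgroup G) : Set G) := by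
        rw [Subgroup.mem_centralizer_iff]
        intro a ha
        obtain ⟨b, hb, rfl⟩ := hsurj a ha
        obtain ⟨b', -, rfl⟩ := hb
        have hby : Commute (b' : G) y :=
          Subgroup.mem_centralizer_singleton_iff.1 (hle b'.2).1
        exact (hby.map (MulAut.conj (k : G))).eq
      rw [hfy, show (k : G) * (f * y) * (k : G)⁻¹ =
        ((k : G) * f * (k : G)⁻¹) * ((k : G) * y * (k : G)⁻¹) by group]
      exact Subgroup.mul_mem_sup h1 h2
    exact Subgroup.subgroupOf_eq_top.1 this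
  have hPnorm : Cz ≤ Subgroup.normalizer ((P : Subgroup G) : Set G) :=
    hcov.trans (sup_le Subgroup.le_normalizer ((Subgroup.centralizer_le_normalizer _)))
  have hgz : ∀ g : G, g * z * g⁻¹ ∈ cls z := fun g => ⟨g, rfl⟩
  -- classes coprime to that of `z` are orbits of `P`
  have horbit : ∀ v ∈ P, (csz v).Coprime (csz z) →
      ∀ g : G, ∃ a ∈ P, g * v * g⁻¹ = a * v * a⁻¹ := by
    intro v hv hcop' g
    obtain ⟨b, hb, hab⟩ := exists_mem_mul_of_index_coprime (Subgroup.centralizer ({v} : Set G))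
      Cz hcop' g
    have hbJ := hcov hb
    rw [hJ, ← SetLike.mem_coe, Subgroup.coe_mul_of_right_le_normalizer_left _ _
      (Subgroup.centralizer_le_normalizer _)] at hbJ
    obtain ⟨a, ha, c, hc, rfl⟩ := hbJ
    rw [Subgroup.mem_centralizer_singleton_iff] at hab
    refine ⟨a, ha, ?_⟩
    have hcv : c * v = v * c := (Subgroup.mem_centralizer_iff.1 hc v hv).symm
    calc g * v * g⁻¹ = a * c * ((a * c)⁻¹ * g * v) * g⁻¹ := by group
      _ = a * c * (v * ((a * c)⁻¹ * g)) * g⁻¹ := by rw [hab]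
      _ = a * (c * v) * c⁻¹ * a⁻¹ := by group
      _ = a * (v * c) * c⁻¹ * a⁻¹ := by rw [hcv]
      _ = a * v * a⁻¹ := by group
  -- the intersection of the Sylow subgroups
  set R : Subgroup G := (P : Subgroup G).normalCore with hR
  have hRP : R ≤ (P : Subgroup G) := Subgroup.normalCore_le _
  have huR : u ∈ R := by
    intro g
    obtain ⟨a, ha, e⟩ := horbit u huP hcop g
    rw [e]
    exact Subgroup.mul_mem _ (Subgroup.mul_mem _ ha huP) (Subgroup.inv_mem _ ha)
  have hRall : ∀ Q : Sylow p G, R ≤ (Q : Subgroup G) := by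
    intro Q a ha
    obtain ⟨g, rfl⟩ := MulAction.exists_smul_eq G P Q
    rw [Sylow.coe_subgroup_smul, Subgroup.mem_pointwise_smul_iff_inv_smul_mem]
    have := ha g⁻¹
    simpa using this
  -- an element not commuting with some element of `R` has class size divisible by `p`
  have hdvdp : ∀ v ∈ P, ∀ r ∈ R, ¬ Commute v r → p ∣ csz v := by
    intro v hv r hr hne
    by_contra hd
    obtain ⟨Q, hQ⟩ := exists_sylow_le_centralizer hd
    exact hne (Subgroup.mem_centralizer_singleton_iff.1 (hQ (hRall Q hr))).symm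
  have hvfail : ∀ v ∈ P, p ∣ csz v → (csz v).Coprime (csz z) := by
    intro v hv hd
    refine hfail v ?_ (Nat.not_coprime_of_dvd_of_dvd hp.one_lt hd hpu)
    obtain ⟨k, hk⟩ := (IsPGroup.iff_orderOf.1 P.2) ⟨v, hv⟩
    rw [Subgroup.orderOf_mk] at hk
    rcases k with _ | k
    · rw [pow_zero, orderOf_eq_one_iff] at hk
      subst hk
      have h1 : csz (1 : G) = 1 := by
        rw [csz, Subgroup.index_eq_one, eq_top_iff]
        intro a _
        simp [Subgroup.mem_centralizer_singleton_iff]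
      rw [h1] at hd
      exact absurd hd hp.not_dvd_one
    · rw [hk]; exact dvd_pow_self p k.succ_ne_zero
  -- quotients of conjugates of `z` are commutators `[u, t]`, `t ∈ R`
  have hcomm' : ∀ g : G, ∃ t ∈ R, t * u * t⁻¹ = u * ((g * z * g⁻¹)⁻¹ * z) := by
    intro g
    have hmem : g⁻¹ * (u * z) * g ∈ cls (u * z) := ⟨g⁻¹, by group⟩
    rw [hclass] at hmem
    obtain ⟨_, ⟨h, rfl⟩, he⟩ := hmem
    simp only at he
    have hu'' : g * h * u * (g * h)⁻¹ = u * ((g * z * g⁻¹)⁻¹ * z) := by
      have hcz : Commute u (g * z * g⁻¹) := by simpa using hcomm 1 g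
      calc g * h * u * (g * h)⁻¹ = g * z⁻¹ * (z * (h * u * h⁻¹)) * g⁻¹ := by group
        _ = g * z⁻¹ * (g⁻¹ * (u * z) * g) * g⁻¹ := by rw [he]
        _ = (g * z * g⁻¹)⁻¹ * u * z := by group
        _ = u * (g * z * g⁻¹)⁻¹ * z := by rw [hcz.inv_right.eq]
        _ = _ := by group
    obtain ⟨t, ht, e⟩ := horbit u huP hcop (g * h)
    rw [hu''] at e
    by_cases htu : Commute t u
    · refine ⟨1, R.one_mem, ?_⟩
      rw [e, htu.eq]
      group
    refine ⟨t, fun k => ?_, e.symm⟩
    obtain ⟨a, ha, e'⟩ := horbit t ht (hvfail t ht (hdvdp t ht u huR htu)) k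
    rw [e']
    exact Subgroup.mul_mem _ (Subgroup.mul_mem _ ha ht) (Subgroup.inv_mem _ ha)
  -- a prime divisor of the class size of `z`
  obtain ⟨q, hq, hqz⟩ := Nat.exists_prime_and_dvd hnz
  have := Fact.mk hq
  have hqp : q ≠ p := fun h => hpz (h ▸ hqz)
  obtain ⟨T, hT⟩ : ∃ T : Sylow q G, ¬ (T : Subgroup G) ≤ Cz := by
    refine ⟨default, fun h => ?_⟩
    exact (not_dvd_index_iff (x := z)).2 ⟨default, h⟩ hqz
  obtain ⟨y, hyT, hyz⟩ := SetLike.not_le_iff_exists.1 hT
  -- `R = C_R(y) Z(R)`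
  let ok : G → Prop := fun a => ∃ c ∈ R, (∀ r ∈ R, Commute c r) ∧ Commute y (a * c)
  have hok : ∀ a ∈ R, ok a := by
    let Z : Subgroup G := R ⊓ Subgroup.centralizer (R : Set G)
    have hZn : Z.Normal := inferInstance
    obtain ⟨K, ⟨hZK, hKR, hKn, hKok⟩, hmax⟩ := Set.Finite.exists_maximal
      (s := {K : Subgroup G | Z ≤ K ∧ K ≤ R ∧ K.Normal ∧ ∀ a ∈ K, ok a}) (Set.toFinite _)
      ⟨Z, le_rfl, inf_le_left, hZn, fun a ha => ⟨a⁻¹, R.inv_mem ha.1,
        fun r hr => (show Commute a r from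
          (Subgroup.mem_centralizer_iff.1 ha.2 r hr).symm).inv_left,
        by rw [mul_inv_cancel]; exact Commute.one_right y⟩⟩
    by_contra hh
    have hlt : ¬ R ≤ K := fun h => hh fun a ha => hKok a (h ha)
    -- `P` fixes a point of `R / K` outside `K`
    obtain ⟨v, hvR, hvK, hv⟩ := exists_central_mod P hRP hlt
    have hnc : ∃ r ∈ R, ¬ Commute v r := by
      by_contra hc
      push Not at hc
      exact hvK (hZK ⟨hvR, Subgroup.mem_centralizer_iff.2 fun r hr => (hc r hr).eq.symm⟩)
    obtain ⟨r, hr, hvr⟩ := hnc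
    have hvcop := hvfail v (hRP hvR) (hdvdp v (hRP hvR) r hr hvr)
    have hvG : ∀ g : G, g * v * g⁻¹ * v⁻¹ ∈ K := by
      intro g
      obtain ⟨a, ha, e⟩ := horbit v (hRP hvR) hvcop g
      rw [e]
      exact hv a ha
    -- a fixed point of `y` in `v K`
    obtain ⟨k, hk, hyk⟩ := exists_fixed_in_coset (P := P) hqp T hyT (hKR.trans hRP) hvG (v := v)
    obtain ⟨c, hcR, hc, hyc⟩ : ok v := by
      obtain ⟨c, hcR, hc, hyc⟩ := hKok k hk
      refine ⟨c⁻¹ * 1, by simpa using R.inv_mem hcR, fun r hr => by simpa using (hc r hr).inv_left, ?_⟩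
      have hkc : Commute c k := hc k (hKR hk)
      have : Commute y (v * k * (k * c)⁻¹) := hyk.mul_right hyc.inv_right
      rw [show v * k * (k * c)⁻¹ = v * c⁻¹ from by
        rw [mul_inv_rev, ← mul_assoc, mul_assoc v k c⁻¹, ← hkc.inv_left.eq]; group] at this
      simpa using this
    let K' : Subgroup G := K ⊔ Subgroup.zpowers v
    have hK'mem : ∀ a, a ∈ K' ↔ ∃ k ∈ K, ∃ i : ℤ, a = k * v ^ i := by
      intro a
      rw [← SetLike.mem_coe, Subgroup.normal_mul, Set.mem_mul]
      constructor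
      · rintro ⟨k, hk, _, ⟨i, rfl⟩, rfl⟩
        exact ⟨k, hk, i, rfl⟩
      · rintro ⟨k, hk, i, rfl⟩
        exact ⟨k, hk, _, ⟨i, rfl⟩, rfl⟩
    have hK'n : K'.Normal := ⟨fun a ha g => by
      obtain ⟨k, hk, i, rfl⟩ := (hK'mem a).1 ha
      have h1 : g * v ^ i * g⁻¹ ∈ K' := by
        rw [← conj_zpow]
        refine Subgroup.zpow_mem _ ?_ i
        rw [show g * v * g⁻¹ = g * v * g⁻¹ * v⁻¹ * v by group]
        exact Subgroup.mul_mem_sup (hvG g) (Subgroup.mem_zpowers v)
      rw [show g * (k * v ^ i) * g⁻¹ = (g * k * g⁻¹) * (g * v ^ i * g⁻¹) by group]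
      exact Subgroup.mul_mem _ (Subgroup.mem_sup_left (hKn.conj_mem k hk g)) h1⟩
    have hK'ok : ∀ a ∈ K', ok a := by
      intro a ha
      obtain ⟨k, hk, i, rfl⟩ := (hK'mem a).1 ha
      obtain ⟨d, hdR, hd, hyd⟩ := hKok k hk
      refine ⟨d * c ^ i, R.mul_mem hdR (R.zpow_mem hcR i),
        fun r hr => (hd r hr).mul_left ((hc r hr).zpow_left i), ?_⟩
      have e : k * v ^ i * (d * c ^ i) = (k * d) * (v * c) ^ i := by
        rw [(hc v hvR).symm.mul_zpow, mul_assoc, ← mul_assoc (v ^ i),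
          ← ((hd v hvR).zpow_right i).eq]
        group
      rw [e]
      exact hyd.mul_right (hyc.zpow_right i)
    have hle := hmax ⟨hZK.trans le_sup_left, sup_le hKR (Subgroup.zpowers_le.2 hvR), hK'n, hK'ok⟩
      le_sup_left
    exact hvK (hle (Subgroup.mem_sup_right (Subgroup.mem_zpowers v)))
  -- hence `y` fixes `z`
  apply hyz
  rw [hCz, Subgroup.mem_centralizer_singleton_iff]
  obtain ⟨t, htR, ht⟩ := hcomm' y
  set e := z⁻¹ * (y * z * y⁻¹) with he
  have hw : (y * z * y⁻¹)⁻¹ * z = u⁻¹ * (t * u * t⁻¹) := by rw [ht, inv_mul_cancel_left]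
  have heR : e ∈ R := by
    have : e⁻¹ ∈ R := by
      rw [show e⁻¹ = (y * z * y⁻¹)⁻¹ * z by rw [he]; group, hw]
      exact R.mul_mem (R.inv_mem huR) (R.mul_mem (R.mul_mem htR huR) (R.inv_mem htR))
    simpa using R.inv_mem this
  have hye : Commute y e := by
    obtain ⟨c, hcR, hc, hyc⟩ := hok u huR
    obtain ⟨d, hdR, hd, hyd⟩ := hok t htR
    have hw' : (y * z * y⁻¹)⁻¹ * z = (u * c)⁻¹ * ((t * d) * (u * c) * (t * d)⁻¹) := by
      have e1 : t * d * (u * c) * (t * d)⁻¹ = t * u * t⁻¹ * c := by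
        calc t * d * (u * c) * (t * d)⁻¹ = t * (d * (u * c)) * d⁻¹ * t⁻¹ := by group
          _ = t * ((u * c) * d) * d⁻¹ * t⁻¹ := by rw [(hd (u * c) (R.mul_mem huR hcR)).eq]
          _ = t * u * (c * t⁻¹) := by group
          _ = t * u * (t⁻¹ * c) := by rw [(hc t htR).inv_right.eq]
          _ = _ := by group
      rw [e1, hw]
      have e2 : (u * c)⁻¹ * (t * u * t⁻¹ * c) = c⁻¹ * (u⁻¹ * (t * u * t⁻¹) * c) := by group
      rw [e2, ← (hc _ (R.mul_mem (R.inv_mem huR)
        (R.mul_mem (R.mul_mem htR huR) (R.inv_mem htR)))).eq, inv_mul_cancel_left]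
    have h := ((hyc.inv_right).mul_right ((hyd.mul_right hyc).mul_right hyd.inv_right))
    rw [← hw', show (y * z * y⁻¹)⁻¹ * z = e⁻¹ by rw [he]; group] at h
    simpa using h.inv_right
  -- `y ^ n` translates `z` by `e ^ n`
  have hiter : ∀ n : ℕ, y ^ n * z * (y ^ n)⁻¹ = z * e ^ n := by
    intro n
    induction n with
    | zero => simp
    | succ n ih =>
      have h1 : y * z * y⁻¹ = z * e := by rw [he, mul_inv_cancel_left]
      have h2 : y * e ^ n * y⁻¹ = e ^ n := by
        rw [(hye.pow_right n).eq, mul_inv_cancel_right]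
      calc y ^ (n + 1) * z * (y ^ (n + 1))⁻¹ = y * (y ^ n * z * (y ^ n)⁻¹) * y⁻¹ := by group
        _ = y * (z * e ^ n) * y⁻¹ := by rw [ih]
        _ = (y * z * y⁻¹) * (y * e ^ n * y⁻¹) := by group
        _ = z * e * e ^ n := by rw [h1, h2]
        _ = z * e ^ (n + 1) := by group
  have he1 : e = 1 := by
    have h := hiter (orderOf y)
    rw [pow_orderOf_eq_one, one_mul, inv_one, mul_one, left_eq_mul] at h
    obtain ⟨j, hj⟩ := (IsPGroup.iff_orderOf.1 P.2) ⟨e, hRP heR⟩
    rw [Subgroup.orderOf_mk] at hj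
    obtain ⟨i, hi⟩ := (IsPGroup.iff_orderOf.1 T.2) ⟨y, hyT⟩
    rw [Subgroup.orderOf_mk] at hi
    rw [← orderOf_eq_one_iff]
    refine Nat.eq_one_of_dvd_coprimes ?_ (orderOf_dvd_of_pow_eq_one h) dvd_rfl
    rw [hi, hj]
    exact Nat.Coprime.pow _ _ ((Nat.coprime_primes hq hp).2 hqp)
  rw [he, inv_mul_eq_one] at he1
  exact mul_inv_eq_iff_eq_mul.1 he1.symm

end Cfsg.Agent.Lib.SingularGraph
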